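import Cfsg.Agent.Signalizer.Transitivity
import Cfsg.Agent.Hall.Pi
import Cfsg.Prelude.Def_OddOrder

/-! Subgroups with the transitivity hypothesis in a minimal simple group. -/

set_option autoImplicit false

namespace CfsgLib.Signalizer

open scoped Pointwise

universe u

variable {G : Type u} [Group G] [Finite G] {A : Subgroup G}

local notation "π'" => Cfsg.primesNotDvd (Nat.card A)

omit [Finite G] in
theorem normalizer_ne_top (hG : IsSimpleGroup G) {D : Subgroup G} (h1 : D ≠ ⊥) (h2 : D ≠ ⊤) :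
    Subgroup.normalizer (D : Set G) ≠ ⊤ := by
  intro h
  exact (hG.eq_bot_or_eq_top_of_normal D (Subgroup.normalizer_eq_top_iff.1 h)).elim h1 h2

omit [Finite G] in
theorem centralizer_singleton_ne_top (hG : IsSimpleGroup G) (hc : ¬ IsMulCommutative G) {a : G}
    (ha : a ≠ 1) : Subgroup.centralizer ({a} : Set G) ≠ ⊤ := by
  intro h
  have hz : a ∈ Subgroup.center G := Subgroup.mem_center_iff.2 fun g =>
    Subgroup.mem_centralizer_singleton_iff.1 (h ▸ Subgroup.mem_top g)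
  rcases hG.eq_bot_or_eq_top_of_normal (Subgroup.center G) inferInstance with hb | ht
  · exact ha (by rwa [hb, Subgroup.mem_bot] at hz)
  · exact hc ⟨⟨fun x y => (Subgroup.mem_center_iff.1 (ht ▸ Subgroup.mem_top y) x)⟩⟩

theorem piCoreOf_le (π : Set ℕ) (H : Subgroup G) : Cfsg.piCoreOf π H ≤ H :=
  Subgroup.map_subtype_le _

theorem piCoreOf_isPi (π : Set ℕ) (H : Subgroup G) : Cfsg.IsPiSubgroup π (Cfsg.piCoreOf π H) :=
  Hall.isPiSubgroup_map _ Hall.isPiSubgroup_piCore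

omit [Finite G] in
theorem le_normalizer_piCoreOf (π : Set ℕ) (H : Subgroup G) :
    H ≤ Subgroup.normalizer (Cfsg.piCoreOf π H : Set G) := by
  refine le_trans ?_ (Subgroup.le_normalizer_map _)
  rw [Subgroup.normalizer_eq_top (H := Cfsg.piCore π H), ← MonoidHom.range_eq_map, Subgroup.range_subtype]

theorem coprime_card_of_isPi {Y : Subgroup G} (hY : Cfsg.IsPiSubgroup π' Y) :
    (Nat.card A).Coprime (Nat.card Y) :=
  Nat.coprime_of_dvd fun r hr hrA hrY => (hY r hr hrY).2 hrA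

theorem isPGroup_mem_invSubgroups {q : ℕ} [Fact q.Prime] (hqA : ¬ q ∣ Nat.card A) {H Y : Subgroup G}
    (hYH : Y ≤ H) (hY : IsPGroup q Y) (hn : A ≤ Subgroup.normalizer (Y : Set G)) :
    Y ∈ Cfsg.invSubgroups H A π' :=
  ⟨hYH, Hall.isPiSubgroup_of_isPGroup Fact.out (⟨Fact.out, hqA⟩ : q ∈ π') hY, hn⟩

theorem le_piCoreOf_of_mem (hA : Cfsg.TransitivityHypothesis A) {H Y : Subgroup G} (hH : H ≠ ⊤)
    (hAH : A ≤ H) (hY : Y ∈ Cfsg.invSubgroups H A π') : Y ≤ Cfsg.piCoreOf π' H :=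
  (hA.2.2 H hH hAH) ▸ le_sSup hY

/-- Every `π(A)'`-subgroup centralizing `A` lies in `O_{π(A)'}(C_G(A))`. -/
theorem le_coreCentralizer (hG : Cfsg.IsMinSimpleOddOrder G) (hA : Cfsg.TransitivityHypothesis A)
    {Y : Subgroup G} (hYA : Y ≤ Subgroup.centralizer (A : Set G)) (hY : Cfsg.IsPiSubgroup π' Y) :
    Y ≤ Cfsg.piCoreOf π' (Subgroup.centralizer (A : Set G)) := by
  set C := Subgroup.centralizer (A : Set G)
  set X := A ⊔ C
  have hXN : X ≤ Subgroup.normalizer (A : Set G) :=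
    sup_le Subgroup.le_normalizer (Subgroup.centralizer_le_normalizer _)
  have hX : X ≠ ⊤ := fun h => normalizer_ne_top hG.2.1 hA.1 hA.2.1 (top_unique (h ▸ hXN))
  have hle := le_piCoreOf_of_mem hA hX le_sup_left
    (Y := Y) ⟨hYA.trans le_sup_right, hY, fun a ha => Subgroup.centralizer_le_normalizer _
      (Subgroup.mem_centralizer_iff.2 fun y hy => (Subgroup.mem_centralizer_iff.1 (hYA hy) a ha).symm)⟩
  refine hle.trans ?_
  set R := Cfsg.piCoreOf π' X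
  have hRX : R ≤ X := piCoreOf_le _ X
  have hRA : R ⊓ A = ⊥ := by
    rw [inf_comm]
    exact CoprimeAction.inf_eq_bot_of_coprime (coprime_card_of_isPi (piCoreOf_isPi _ X))
  have hRC : R ≤ C := fun r hr => Subgroup.mem_centralizer_iff.2 fun a ha => by
    have h1 : a * r * a⁻¹ * r⁻¹ ∈ R ⊓ A := by
      refine Subgroup.mem_inf.2 ⟨mul_mem (CoprimeAction.conj_mem ((le_sup_left (b := C)).trans
        (le_normalizer_piCoreOf _ X)) ha hr) (R.inv_mem hr), ?_⟩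
      have h2 := CoprimeAction.conj_mem (hRX.trans hXN) hr (A.inv_mem ha)
      have h3 := A.mul_mem ha h2
      simpa [mul_assoc] using h3
    rw [hRA, Subgroup.mem_bot] at h1
    exact mul_inv_eq_iff_eq_mul.1 (mul_inv_eq_one.1 h1)
  have : (R.subgroupOf C).Normal := Subgroup.normal_subgroupOf_of_le_normalizer
    ((le_sup_right : C ≤ X).trans (le_normalizer_piCoreOf _ X))
  have hsub : R.subgroupOf C ≤ Cfsg.piCore π' C := Hall.le_piCore (N := R.subgroupOf C) (by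
    intro r hr hd
    exact piCoreOf_isPi _ X r hr (hd.trans (PCore.card_subgroupOf_dvd R C)))
  intro r hr
  exact ⟨⟨r, hRC hr⟩, hsub hr, rfl⟩

variable {q : ℕ} [hq : Fact q.Prime]

/-- `Q₁` and `Q₂` are conjugate by an element of `O_{π(A)'}(C_G(A))`. -/
def ConjK (A Q₁ Q₂ : Subgroup G) : Prop :=
  ∃ k ∈ Cfsg.piCoreOf (Cfsg.primesNotDvd (Nat.card A)) (Subgroup.centralizer (A : Set G)),
    Q₂ = MulAut.conj k • Q₁

theorem ConjK.trans {Q₁ Q₂ Q₃ : Subgroup G} (h : ConjK A Q₁ Q₂) (h' : ConjK A Q₂ Q₃) : ConjK A Q₁ Q₃ := by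
  obtain ⟨k, hk, rfl⟩ := h
  obtain ⟨l, hl, rfl⟩ := h'
  exact ⟨l * k, mul_mem hl hk, (conj_smul_mul l k Q₁).symm⟩

omit hq in
theorem ConjK.symm {Q₁ Q₂ : Subgroup G} (h : ConjK A Q₁ Q₂) : ConjK A Q₂ Q₁ := by
  obtain ⟨k, hk, rfl⟩ := h
  exact ⟨k⁻¹, inv_mem hk, by rw [← conj_smul_mul, inv_mul_cancel, map_one, one_smul]⟩

omit hq in
theorem mem_centralizer_of_mem_coreCentralizer {k : G}
    (hk : k ∈ Cfsg.piCoreOf π' (Subgroup.centralizer (A : Set G))) :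
    k ∈ Subgroup.centralizer (A : Set G) := piCoreOf_le _ _ hk

/-- The common step: through a proper overgroup of `A` one passes from `Q₁` to `Q₂` in three
moves, each of which joins subgroups with a nontrivial intersection. -/
theorem exists_bridge (hG : Cfsg.IsMinSimpleOddOrder G) (hA : Cfsg.TransitivityHypothesis A)
    (hqA : ¬ q ∣ Nat.card A) {H R₁ R₂ : Subgroup G} (hH : H ≠ ⊤) (hAH : A ≤ H) (h₁ : R₁ ≤ H)
    (h₂ : R₂ ≤ H) (hq₁ : IsPGroup q R₁) (hq₂ : IsPGroup q R₂)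
    (hn₁ : A ≤ Subgroup.normalizer (R₁ : Set G)) (hn₂ : A ≤ Subgroup.normalizer (R₂ : Set G)) :
    ∃ k ∈ Cfsg.piCoreOf π' (Subgroup.centralizer (A : Set G)),
      ∃ Q₃ ∈ Cfsg.maxInvSubgroups ⊤ A {q}, R₁ ≤ Q₃ ∧ R₂ ≤ MulAut.conj k • Q₃ := by
  set O := Cfsg.piCoreOf π' H
  have hAO : A ≤ Subgroup.normalizer (O : Set G) := hAH.trans (le_normalizer_piCoreOf _ H)
  have hcop := coprime_card_of_isPi (piCoreOf_isPi π' H)
  have := hG.2.2.2 H hH
  have hsolv : Group.IsSolvable A ∨ Group.IsSolvable O := Or.inr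
    (Group.isSolvable_of_isSolvable_injective (Subgroup.inclusion_injective (piCoreOf_le π' H)))
  obtain ⟨P₁, hP₁, hPn₁⟩ := CoprimeAction.exists_invariant_sylow_ge hAO hcop hsolv
    (le_piCoreOf_of_mem hA hH hAH (isPGroup_mem_invSubgroups hqA h₁ hq₁ hn₁)) hq₁ hn₁
  obtain ⟨P₂, hP₂, hPn₂⟩ := CoprimeAction.exists_invariant_sylow_ge hAO hcop hsolv
    (le_piCoreOf_of_mem hA hH hAH (isPGroup_mem_invSubgroups hqA h₂ hq₂ hn₂)) hq₂ hn₂
  obtain ⟨c, hcC, hcP⟩ := CoprimeAction.invariant_sylow_conj hAO hcop hsolv P₁ P₂ hPn₁ hPn₂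
  obtain ⟨Q₃, hQ₃, hle⟩ := exists_max_ge (mem_invSubgroups_top_singleton.2
    ⟨P₁.2.map O.subtype, hPn₁⟩)
  refine ⟨c, le_coreCentralizer hG hA (Y := Subgroup.zpowers (c : G)) (Subgroup.zpowers_le.2 hcC)
    (Hall.isPiSubgroup_mono (Subgroup.zpowers_le.2 c.2) (piCoreOf_isPi π' H)) (Subgroup.mem_zpowers _),
    Q₃, hQ₃, hP₁.trans hle, hP₂.trans ?_⟩
  rw [← hcP, CoprimeAction.sylow_map_conj]
  exact (Subgroup.pointwise_smul_le_pointwise_smul_iff).2 hle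

theorem conjK_of_inf_ne_bot (hG : Cfsg.IsMinSimpleOddOrder G) (hA : Cfsg.TransitivityHypothesis A)
    (hqA : ¬ q ∣ Nat.card A) {Q₁ Q₂ : Subgroup G} (h₁ : Q₁ ∈ Cfsg.maxInvSubgroups ⊤ A {q})
    (h₂ : Q₂ ∈ Cfsg.maxInvSubgroups ⊤ A {q}) (hD : Q₁ ⊓ Q₂ ≠ ⊥) : ConjK A Q₁ Q₂ := by
  induction hn : Nat.card G - Nat.card ↥(Q₁ ⊓ Q₂) using Nat.strong_induction_on generalizing Q₁ Q₂ with
  | _ n ih =>
  subst hn
  set D := Q₁ ⊓ Q₂ with hDdef
  obtain ⟨hQ₁, hA₁⟩ := mem_invSubgroups_top_singleton.1 h₁.1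
  obtain ⟨hQ₂, hA₂⟩ := mem_invSubgroups_top_singleton.1 h₂.1
  rcases (inf_le_left : D ≤ Q₁).eq_or_lt with he | hlt₁
  · exact ⟨1, one_mem _, by rw [map_one, one_smul]; exact h₁.2 _ h₂.1 (inf_eq_left.1 he)⟩
  rcases (inf_le_right : D ≤ Q₂).eq_or_lt with he | hlt₂
  · exact ⟨1, one_mem _, by rw [map_one, one_smul]; exact (h₂.2 _ h₁.1 (inf_eq_right.1 he)).symm⟩
  set N := Subgroup.normalizer (D : Set G)
  have hAN : A ≤ N := le_normalizer_inf hA₁ hA₂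
  have hAN' : A ≤ Subgroup.normalizer (N : Set G) := le_normalizer_normalizer hAN
  have hN : N ≠ ⊤ := normalizer_ne_top hG.2.1 hD fun h => hlt₁.ne
    (le_antisymm hlt₁.le (le_top.trans_eq h.symm))
  obtain ⟨k, hk, Q₃, hQ₃, hle₁, hle₂⟩ := exists_bridge hG hA hqA (R₁ := Q₁ ⊓ N) (R₂ := Q₂ ⊓ N) hN hAN
    inf_le_right inf_le_right (hQ₁.to_le inf_le_left) (hQ₂.to_le inf_le_left)
    (le_normalizer_inf hA₁ hAN') (le_normalizer_inf hA₂ hAN')
  have hDN : D ≤ N := Subgroup.le_normalizer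
  have hstep : ∀ (Q P : Subgroup G), D ≤ Q → D ≤ P → ∀ T : Subgroup G, T ≤ Q → T ≤ P → ¬ T ≤ D →
      Q ⊓ P ≠ ⊥ ∧ Nat.card G - Nat.card ↥(Q ⊓ P) < Nat.card G - Nat.card D := by
    intro Q P hDQ hDP T hTQ hTP hTD
    have hlt : D < Q ⊓ P := lt_of_le_not_ge (le_inf hDQ hDP) fun h => hTD ((le_inf hTQ hTP).trans h)
    have h1 : Nat.card D < Nat.card ↥(Q ⊓ P) := lt_of_le_of_ne (Subgroup.card_le_of_le hlt.le)
      fun h => hlt.ne (Subgroup.eq_of_le_of_card_ge hlt.le h.ge)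
    have h2 := Subgroup.card_le_card_group (Q ⊓ P)
    exact ⟨ne_bot_of_gt hlt, by omega⟩
  obtain ⟨n₁, e₁⟩ := hstep Q₁ Q₃ inf_le_left ((le_inf inf_le_left hDN).trans hle₁) (Q₁ ⊓ N)
    inf_le_left hle₁ (exists_mem_normalizer_of_lt hQ₁ hlt₁)
  obtain ⟨n₂, e₂⟩ := hstep (MulAut.conj k • Q₃) Q₂ ((le_inf inf_le_right hDN).trans hle₂) inf_le_right
    (Q₂ ⊓ N) hle₂ inf_le_left (exists_mem_normalizer_of_lt hQ₂ hlt₂)
  have hkC := mem_centralizer_of_mem_coreCentralizer hk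
  exact ((ih _ e₁ h₁ hQ₃ n₁ rfl).trans ⟨k, hk, rfl⟩).trans
    (ih _ e₂ (conj_mem_maxInvSubgroups hkC hQ₃) h₂ n₂ rfl)

/-- B&G 7.1. -/
theorem conjK_of_overgroup (hG : Cfsg.IsMinSimpleOddOrder G) (hA : Cfsg.TransitivityHypothesis A)
    (hqA : ¬ q ∣ Nat.card A) {Q₁ Q₂ H : Subgroup G} (h₁ : Q₁ ∈ Cfsg.maxInvSubgroups ⊤ A {q})
    (h₂ : Q₂ ∈ Cfsg.maxInvSubgroups ⊤ A {q}) (hH : H ≠ ⊤) (hAH : A ≤ H) (hH₁ : H ⊓ Q₁ ≠ ⊥)
    (hH₂ : H ⊓ Q₂ ≠ ⊥) : ConjK A Q₁ Q₂ := by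
  obtain ⟨hQ₁, hA₁⟩ := mem_invSubgroups_top_singleton.1 h₁.1
  obtain ⟨hQ₂, hA₂⟩ := mem_invSubgroups_top_singleton.1 h₂.1
  have hn := hAH.trans (Subgroup.le_normalizer (H := H))
  obtain ⟨k, hk, Q₃, hQ₃, hle₁, hle₂⟩ := exists_bridge hG hA hqA (R₁ := H ⊓ Q₁) (R₂ := H ⊓ Q₂) hH hAH
    inf_le_left inf_le_left (hQ₁.to_le inf_le_right) (hQ₂.to_le inf_le_right)
    (le_normalizer_inf hn hA₁) (le_normalizer_inf hn hA₂)
  exact ((conjK_of_inf_ne_bot hG hA hqA h₁ hQ₃ (ne_bot_of_le_ne_bot hH₁ (le_inf inf_le_right hle₁))).trans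
    ⟨k, hk, rfl⟩).trans (conjK_of_inf_ne_bot hG hA hqA
      (conj_mem_maxInvSubgroups (mem_centralizer_of_mem_coreCentralizer hk) hQ₃) h₂
      (ne_bot_of_le_ne_bot hH₂ (le_inf hle₂ inf_le_right)))

/-- An elementary abelian subgroup of order `r ^ (n + 1)` inside the centre of `A`. -/
theorem exists_elemAbelian_center {n : ℕ}
    (hZ : ¬ Cfsg.RankLE n ↥(A ⊓ Subgroup.centralizer (A : Set G))) :
    ∃ r : ℕ, r.Prime ∧ ∃ E : Subgroup G, E ≤ A ∧ A ≤ Subgroup.centralizer (E : Set G) ∧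
      Cfsg.IsElementaryAbelian r E ∧ r ^ (n + 1) ≤ Nat.card E := by
  obtain ⟨r, hr, E₀, hE, hEr, hEc⟩ : ∃ r : ℕ, r.Prime ∧ ∃ E : Subgroup ↥(A ⊓ Subgroup.centralizer (A : Set G)),
      IsMulCommutative E ∧ (∀ e ∈ E, e ^ r = 1) ∧ r ^ n < Nat.card E := by
    by_contra hcon
    exact hZ fun r hr E hE hEr => not_lt.1 fun hlt => hcon ⟨r, hr, E, hE, hEr, hlt⟩
  have := Fact.mk hr
  refine ⟨r, hr, E₀.map (A ⊓ Subgroup.centralizer (A : Set G)).subtype, (Subgroup.map_subtype_le E₀).trans inf_le_left, fun a ha => ?_,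
    ⟨inferInstance, ?_⟩, ?_⟩
  · refine Subgroup.mem_centralizer_iff.2 ?_
    rintro _ ⟨e, -, rfl⟩
    exact (Subgroup.mem_centralizer_iff.1 (Subgroup.mem_inf.1 e.2).2 a ha).symm
  · rintro _ ⟨e, he, rfl⟩
    rw [← map_pow, hEr e he, map_one]
  · rw [Subgroup.card_map_of_injective Subtype.val_injective]
    obtain ⟨m, hm⟩ := IsPGroup.iff_card.1 (show IsPGroup r E₀ from
      fun e => ⟨1, Subtype.ext (by rw [pow_one]; exact hEr e e.2)⟩)
    rw [hm] at hEc ⊢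
    exact Nat.pow_le_pow_right hr.pos ((Nat.pow_lt_pow_iff_right hr.one_lt).1 hEc)

/-- A noncyclic elementary abelian group has a nontrivial element with nontrivial fixed points
on every nontrivial invariant subgroup of coprime order. -/
theorem exists_centralizer_ne_bot {r : ℕ} [Fact r.Prime] {E Q : Subgroup G}
    (hE : Cfsg.IsElementaryAbelian r E) (hE2 : r ^ 2 ≤ Nat.card E)
    (hn : E ≤ Subgroup.normalizer (Q : Set G)) (hc : (Nat.card E).Coprime (Nat.card Q)) (hQ : Q ≠ ⊥) :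
    ∃ a ∈ E, a ≠ 1 ∧ Q ⊓ Subgroup.centralizer ({a} : Set G) ≠ ⊥ := by
  have := hE.1
  have hE1 : E ≠ ⊥ := by
    rintro rfl
    rw [Subgroup.card_bot] at hE2
    exact absurd hE2 (not_le.2 (one_lt_pow₀ (Fact.out : r.Prime).one_lt (by norm_num)))
  by_contra hcon
  push Not at hcon
  refine hQ (le_bot_iff.1 (CoprimeAction.le_of_hyperplane_centralizers_le hE1 hE.2 hn hc fun B hB hi => ?_))
  have hB1 : B ≠ ⊥ := by
    rintro rfl
    rw [Subgroup.relIndex_bot_left] at hi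
    rw [hi] at hE2
    have := (Nat.pow_le_pow_iff_right (Fact.out : r.Prime).one_lt (m := 1) (n := 2))
    rw [pow_one] at this
    exact absurd (this.1 hE2) (by norm_num)
  obtain ⟨b, hb, hb1⟩ := (Subgroup.bot_or_exists_ne_one B).resolve_left hB1
  exact le_trans (inf_le_inf_left _ (Subgroup.centralizer_le (Set.singleton_subset_iff.2 hb)))
    (hcon b (hB hb) hb1).le

theorem inf_centralizer_ne_bot {Q : Subgroup G} {a : G}
    (h : ¬ Q ⊓ Subgroup.centralizer ({a} : Set G) ≤ ⊥) : Subgroup.centralizer ({a} : Set G) ⊓ Q ≠ ⊥ :=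
  fun h' => h (le_of_eq (by rwa [inf_comm]))

/-- B&G 7.2. -/
theorem conjK_of_center_rank_three (hG : Cfsg.IsMinSimpleOddOrder G) (hA : Cfsg.TransitivityHypothesis A)
    (hqA : ¬ q ∣ Nat.card A) (hZ : ¬ Cfsg.RankLE 2 ↥(A ⊓ Subgroup.centralizer (A : Set G)))
    {Q₁ Q₂ : Subgroup G} (h₁ : Q₁ ∈ Cfsg.maxInvSubgroups ⊤ A {q})
    (h₂ : Q₂ ∈ Cfsg.maxInvSubgroups ⊤ A {q}) : ConjK A Q₁ Q₂ := by
  rcases eq_or_ne Q₁ ⊥ with rfl | hb₁
  · exact ⟨1, one_mem _, by rw [map_one, one_smul]; exact h₁.2 _ h₂.1 bot_le⟩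
  rcases eq_or_ne Q₂ ⊥ with rfl | hb₂
  · exact ⟨1, one_mem _, by rw [map_one, one_smul]; exact (h₂.2 _ h₁.1 bot_le).symm⟩
  obtain ⟨r, hr, E, hEA, hAE, hE, hE3⟩ := exists_elemAbelian_center hZ
  have := Fact.mk hr
  obtain ⟨hQ₁, hA₁⟩ := mem_invSubgroups_top_singleton.1 h₁.1
  obtain ⟨hQ₂, hA₂⟩ := mem_invSubgroups_top_singleton.1 h₂.1
  have hcop : ∀ Q : Subgroup G, IsPGroup q Q → (Nat.card E).Coprime (Nat.card Q) := fun Q hQ =>
    (coprime_card_of_isPi (Hall.isPiSubgroup_of_isPGroup Fact.out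
      (⟨Fact.out, hqA⟩ : q ∈ π') hQ)).coprime_dvd_left (Subgroup.card_dvd_of_le hEA)
  obtain ⟨a, ha, ha1, hn₁, hn₂⟩ := exists_common_centralizer (D := ⊥) hE hE3 (hEA.trans hA₁)
    (hEA.trans hA₂) (hcop _ hQ₁) (hcop _ hQ₂) (fun h => hb₁ (le_bot_iff.1 h)) (fun h => hb₂ (le_bot_iff.1 h))
  exact conjK_of_overgroup hG hA hqA h₁ h₂
    (centralizer_singleton_ne_top hG.2.1 hG.2.2.1 ha1)
    (hAE.trans (Subgroup.centralizer_le (Set.singleton_subset_iff.2 ha)))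
    (inf_centralizer_ne_bot hn₁) (inf_centralizer_ne_bot hn₂)

/-- B&G 7.3. -/
theorem conjK_of_center_rank_two (hG : Cfsg.IsMinSimpleOddOrder G) (hA : Cfsg.TransitivityHypothesis A)
    (hqA : ¬ q ∣ Nat.card A) (hqC : q ∣ Nat.card (Subgroup.centralizer (A : Set G)))
    (hZ : ¬ Cfsg.RankLE 1 ↥(A ⊓ Subgroup.centralizer (A : Set G)))
    {Q₁ Q₂ : Subgroup G} (h₁ : Q₁ ∈ Cfsg.maxInvSubgroups ⊤ A {q})
    (h₂ : Q₂ ∈ Cfsg.maxInvSubgroups ⊤ A {q}) : ConjK A Q₁ Q₂ := by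
  obtain ⟨r, hr, E, hEA, hAE, hE, hE2⟩ := exists_elemAbelian_center hZ
  have := Fact.mk hr
  obtain ⟨⟨s, hs⟩, hord⟩ := exists_prime_orderOf_dvd_card' q hqC
  rw [← Subgroup.orderOf_coe] at hord
  set S := Subgroup.zpowers s
  have hSC : S ≤ Subgroup.centralizer (A : Set G) := Subgroup.zpowers_le.2 hs
  have hSn : A ≤ Subgroup.normalizer (S : Set G) := fun a ha => Subgroup.centralizer_le_normalizer _
    (Subgroup.mem_centralizer_iff.2 fun y hy => (Subgroup.mem_centralizer_iff.1 (hSC hy) a ha).symm)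
  have hS1 : S ≠ ⊥ := fun h => by
    rw [Subgroup.zpowers_eq_bot] at h
    simp only [h, orderOf_one] at hord
    exact (Fact.out : q.Prime).ne_one hord.symm
  obtain ⟨Q₀, hQ₀, hSQ₀⟩ := exists_max_ge (mem_invSubgroups_top_singleton.2
    ⟨(IsPGroup.of_card (n := 1) (by rw [Nat.card_zpowers, pow_one]; exact hord) : IsPGroup q S), hSn⟩)
  suffices key : ∀ Q ∈ Cfsg.maxInvSubgroups ⊤ A {q}, ConjK A Q₀ Q from (key Q₁ h₁).symm.trans (key Q₂ h₂)
  intro Q hQ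
  obtain ⟨hQq, hAQ⟩ := mem_invSubgroups_top_singleton.1 hQ.1
  rcases eq_or_ne Q ⊥ with rfl | hb
  · exact absurd (le_bot_iff.1 (hSQ₀.trans (hQ.2 _ hQ₀.1 bot_le).le)) hS1
  obtain ⟨a, ha, ha1, hn⟩ := exists_centralizer_ne_bot hE hE2 (hEA.trans hAQ)
    ((coprime_card_of_isPi (Hall.isPiSubgroup_of_isPGroup Fact.out
      (⟨Fact.out, hqA⟩ : q ∈ π') hQq)).coprime_dvd_left (Subgroup.card_dvd_of_le hEA)) hb
  refine conjK_of_overgroup hG hA hqA hQ₀ hQ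
    (centralizer_singleton_ne_top hG.2.1 hG.2.2.1 ha1)
    (hAE.trans (Subgroup.centralizer_le (Set.singleton_subset_iff.2 ha)))
    (ne_bot_of_le_ne_bot hS1 (le_inf ?_ hSQ₀)) (by rwa [inf_comm])
  exact hSC.trans (Subgroup.centralizer_le (Set.singleton_subset_iff.2 (hEA ha)))

end CfsgLib.Signalizer
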